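import Groth.Agent.DQCoh.Coprod
import Groth.Agent.Brown.Apply
import Mathlib.Algebra.Homology.DerivedCategory.KProjective
import Mathlib.Algebra.Category.ModuleCat.AB
import Mathlib.CategoryTheory.Abelian.GrothendieckCategory.ModuleEmbedding.GabrielPopescu

/-!
# Brown representability in the derived category of a Grothendieck abelian category

Through Gabriel–Popescu: the derived category is a quotient of the derived category of a ring,
which is compactly generated.
-/

set_option backward.isDefEq.respectTransparency false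
set_option backward.isDefEq.respectTransparency.types false
set_option linter.style.haveILetI false
set_option linter.unusedSectionVars false
set_option autoImplicit false

universe w' w v u

open CategoryTheory Limits Pretriangulated Opposite HomologicalComplex DerivedCategory
open scoped ZeroObject

namespace Groth.Agent.BrownDerived

variable {B : Type u} [Category.{v} B] [Abelian B] [IsGrothendieckAbelian.{v} B]

theorem hKinj (K : CochainComplex B ℤ) :
    ∃ (I : CochainComplex B ℤ) (f : K ⟶ I), I.IsKInjective ∧ QuasiIso f := by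
  obtain ⟨I, f, h1, h2, -⟩ := KInj.exists_kInjective K
  exact ⟨I, f, h1, h2⟩

theorem locallySmall_derivedCategory [HasDerivedCategory.{w} B] : LocallySmall.{v} (DerivedCategory B) := by
  refine ⟨fun X Y => ?_⟩
  obtain ⟨I, f, hI, hf⟩ := hKinj ((Q : _ ⥤ DerivedCategory B).objPreimage Y)
  let eY : Y ≅ Q.obj I := ((Q : _ ⥤ DerivedCategory B).objObjPreimageIso Y).symm ≪≫ asIso (Q.map f)
  let eX := ((Q : _ ⥤ DerivedCategory B).objObjPreimageIso X)
  refine small_of_surjective (f := fun g : (Q.objPreimage X ⟶ I) => eX.inv ≫ Q.map g ≫ eY.inv) fun φ => ?_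
  obtain ⟨g, hg⟩ := KInj.Q_map_surjective (eX.hom ≫ φ ≫ eY.hom)
  exact ⟨g, by simp [hg]⟩

/-- A derived category with small morphisms. -/
@[instance_reducible]
noncomputable def smallDerived (B : Type u) [Category.{v} B] [Abelian B] [IsGrothendieckAbelian.{v} B] :
    HasDerivedCategory.{v} B :=
  letI := HasDerivedCategory.standard B
  haveI := locallySmall_derivedCategory (B := B)
  { D := ShrinkHoms (DerivedCategory B)
    L := Q ⋙ (ShrinkHoms.equivalence (DerivedCategory B)).functor }

/-! ### The derived category of a ring -/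

section Ring

variable (R : Type v) [Ring R]

/-- `R` placed in degree `n`. -/
noncomputable abbrev gen (n : ℤ) : CochainComplex (ModuleCat.{v} R) ℤ :=
  (single (ModuleCat.{v} R) (ComplexShape.up ℤ) n).obj (ModuleCat.of R R)

instance projective_self : Projective (ModuleCat.of R R) :=
  (IsProjective.iff_projective R).1 inferInstance

instance isKProjective_gen (n : ℤ) : (gen R n).IsKProjective :=
  haveI : ∀ i, Projective ((gen R n).X i) := fun i => by
    by_cases h : i = n
    · subst h
      exact Projective.of_iso (singleObjXSelf _ i (ModuleCat.of R R)).symm inferInstance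
    · exact (isZero_single_obj_X _ n _ i h).projective
  CochainComplex.isKProjective_of_projective _ n

variable [HasDerivedCategory.{w} (ModuleCat.{v} R)]
variable {R}

theorem Q_map_surjective (n : ℤ) (L : CochainComplex (ModuleCat.{v} R) ℤ) :
    Function.Surjective (Q.map : (gen R n ⟶ L) → _) := fun φ => by
  obtain ⟨g, hg⟩ := (CochainComplex.IsKProjective.Qh_map_bijective (gen R n)
    ((HomotopyCategory.quotient _ (ComplexShape.up ℤ)).obj L)).2
    ((quotientCompQhIso _).hom.app (gen R n) ≫ φ ≫ (quotientCompQhIso _).inv.app L)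
  obtain ⟨g, rfl⟩ := (HomotopyCategory.quotient _ (ComplexShape.up ℤ)).map_surjective g
  refine ⟨g, ?_⟩
  have := quotientCompQhIso_hom_naturality g
  rw [hg] at this
  simpa using! this.symm

theorem homotopy_of_Q_map_eq_zero (n : ℤ) {L : CochainComplex (ModuleCat.{v} R) ℤ} {g : gen R n ⟶ L}
    (h : Q.map g = 0) : Nonempty (Homotopy g 0) := by
  refine ⟨HomotopyCategory.homotopyOfEq g 0 ?_⟩
  apply (CochainComplex.IsKProjective.Qh_map_bijective (gen R n) _).1
  rw [← cancel_mono ((quotientCompQhIso _).hom.app L), quotientCompQhIso_hom_naturality,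
    quotientCompQhIso_hom_naturality, h, Functor.map_zero]

theorem gen_hom_ext {n : ℤ} {L : CochainComplex (ModuleCat.{v} R) ℤ} {f g : gen R n ⟶ L}
    (h : (f.f n).hom ((singleObjXSelf (ComplexShape.up ℤ) n (ModuleCat.of R R)).inv.hom (1 : R)) =
      (g.f n).hom ((singleObjXSelf (ComplexShape.up ℤ) n (ModuleCat.of R R)).inv.hom (1 : R))) : f = g := by
  refine from_single_hom_ext ?_
  rw [← cancel_epi (singleObjXSelf (ComplexShape.up ℤ) n (ModuleCat.of R R)).inv]
  exact ModuleCat.hom_ext (LinearMap.ext_ring h)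

theorem eq_top_of_isColimit {T : Type v} {X : T → ModuleCat.{v} R} {c : Cofan X} (hc : IsColimit c) :
    (⨆ t, LinearMap.range (c.inj t).hom) = ⊤ := by
  rw [← Submodule.ker_mkQ (⨆ t, LinearMap.range (c.inj t).hom), LinearMap.ker_eq_top]
  have : ModuleCat.ofHom (Submodule.mkQ (⨆ t, LinearMap.range (c.inj t).hom)) = 0 :=
    Cofan.IsColimit.hom_ext hc _ _ fun t => by
      refine ModuleCat.hom_ext (LinearMap.ext fun y => ?_)
      simp only [ModuleCat.hom_comp, LinearMap.comp_apply, ModuleCat.hom_ofHom, Submodule.mkQ_apply,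
        ModuleCat.hom_zero, LinearMap.zero_apply, Submodule.Quotient.mk_eq_zero]
      exact Submodule.mem_iSup_of_mem t ⟨y, rfl⟩
  exact congrArg ModuleCat.Hom.hom this

/-- A map from `R[-n]` into a coproduct only involves finitely many summands. -/
theorem exists_finset {n : ℤ} {T : Type v} (K : T → CochainComplex (ModuleCat.{v} R) ℤ)
    (g : gen R n ⟶ ∐ K) :
    ∃ (s : Finset T) (p : ∀ t, gen R n ⟶ K t), g = ∑ t ∈ s, p t ≫ Sigma.ι K t := by
  classical
  let col := isColimitCofanMkObjOfIsColimit (HomologicalComplex.eval (ModuleCat.{v} R) (ComplexShape.up ℤ) n)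
    _ _ (coproductIsCoproduct K)
  let x := (g.f n).hom ((singleObjXSelf (ComplexShape.up ℤ) n (ModuleCat.of R R)).inv.hom (1 : R))
  have hx : x ∈ ⨆ t, LinearMap.range ((Sigma.ι K t).f n).hom := eq_top_of_isColimit col ▸ Submodule.mem_top
  obtain ⟨s, hs⟩ := Submodule.exists_finset_of_mem_iSup _ hx
  let π : ∀ t, (∐ K) ⟶ K t := fun t => Sigma.desc fun t' => if h : t' = t then eqToHom (by rw [h]) else 0
  refine ⟨s, fun t => g ≫ π t, ?_⟩
  have hP : ∀ y, y ∈ (⨆ t ∈ s, LinearMap.range ((Sigma.ι K t).f n).hom) →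
      ((∑ t ∈ s, π t ≫ Sigma.ι K t).f n).hom y = y := by
    intro y hy
    refine (Submodule.mem_iSup_finset_iff_exists_sum (s := s) (fun t => LinearMap.range ((Sigma.ι K t).f n).hom) y).1 hy
      |>.elim fun μ hμ => ?_
    rw [← hμ, map_sum]
    refine Finset.sum_congr rfl fun t ht => ?_
    obtain ⟨z, hz⟩ := (μ t).2
    rw [← hz, ← LinearMap.comp_apply, ← ModuleCat.hom_comp, ← HomologicalComplex.comp_f]
    congr 3
    rw [Preadditive.comp_sum, Finset.sum_eq_single t (fun t' _ ht' => by simp [π, Ne.symm ht'])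
      (fun h => absurd ht h)]
    simp [π]
  refine gen_hom_ext ?_
  simp only [Category.assoc, ← Preadditive.comp_sum]
  exact (hP x hs).symm

theorem isCompactObject_gen [HasDerivedCategory.{v} (ModuleCat.{v} R)]
    [HasCoproducts.{v} (DerivedCategory.{v} (ModuleCat.{v} R))] (n : ℤ) :
    CohDer.IsCompactObject ((Q : _ ⥤ DerivedCategory (ModuleCat.{v} R)).obj (gen R n)) := by
  classical
  intro T X
  have hsum : ∀ (t : T) (φ : Q.obj (gen R n) ⟶ X t), CohDer.homSumToHomCoprod _ X (DirectSum.of (fun t => Q.obj (gen R n) ⟶ X t) t φ) = φ ≫ Sigma.ι X t := fun t φ =>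
    CohDerTri.homSum_of _ _ t φ
  refine ⟨fun a b hab => DFinsupp.ext fun t => ?_, fun α => ?_⟩
  · let π : (∐ X) ⟶ X t := Sigma.desc fun t' => if h : t' = t then eqToHom (by rw [h]) else 0
    have key : ∀ a, CohDer.homSumToHomCoprod (Q.obj (gen R n)) X a ≫ π = a t := by
      intro a
      induction a using DirectSum.induction_on with
      | zero => rw [map_zero, zero_comp]; rfl
      | of t' φ =>
        rw [hsum, Category.assoc, Sigma.ι_desc]
        by_cases h : t' = t
        · subst h; simp
        · simp [dif_neg h, DirectSum.of_eq_of_ne _ _ _ (Ne.symm h)]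
      | add a b ha hb => rw [map_add, Preadditive.add_comp, ha, hb]; rfl
    rw [← key a, ← key b, hab]
  · let K₀ := fun t => (Q : _ ⥤ DerivedCategory (ModuleCat.{v} R)).objPreimage (X t)
    let e : ∀ t, Q.obj (K₀ t) ≅ X t := fun t => Q.objObjPreimageIso (X t)
    obtain ⟨hc⟩ := DQCoh.nonempty_isColimit_Q_coprod hKinj K₀
    let φ : Q.obj (∐ K₀) ⟶ ∐ X := Cofan.IsColimit.desc hc fun t => (e t).hom ≫ Sigma.ι X t
    let ψ : (∐ X) ⟶ Q.obj (∐ K₀) := Sigma.desc fun t => (e t).inv ≫ Q.map (Sigma.ι K₀ t)
    have hψφ : ψ ≫ φ = 𝟙 _ := Sigma.hom_ext _ _ fun t => by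
      have h2 : Q.map (Sigma.ι K₀ t) ≫ φ = (e t).hom ≫ Sigma.ι X t := Cofan.IsColimit.fac hc _ t
      simp [ψ, h2]
    obtain ⟨g, hg⟩ := Q_map_surjective n (∐ K₀) (α ≫ ψ)
    obtain ⟨s, p, rfl⟩ := exists_finset K₀ g
    refine ⟨∑ t ∈ s, DirectSum.of _ t (Q.map (p t) ≫ (e t).hom), ?_⟩
    rw [map_sum, ← Category.comp_id α, ← hψφ, ← Category.assoc, ← hg, Functor.map_sum, Preadditive.sum_comp]
    refine Finset.sum_congr rfl fun t _ => ?_
    have h2 : Q.map (Sigma.ι K₀ t) ≫ φ = (e t).hom ≫ Sigma.ι X t := Cofan.IsColimit.fac hc _ t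
    rw [hsum, Functor.map_comp, Category.assoc, Category.assoc, h2]

theorem generates_gen :
    CohDer.Generates (fun n : ℤ => (Q : _ ⥤ DerivedCategory (ModuleCat.{v} R)).obj (gen R n)) := by
  intro X hX
  let L := (Q : _ ⥤ DerivedCategory (ModuleCat.{v} R)).objPreimage X
  let e : Q.obj L ≅ X := Q.objObjPreimageIso X
  refine IsZero.of_iso ?_ e.symm
  have hac : ∀ i, L.ExactAt i := fun i => by
    rw [exactAt_iff' L (i - 1) i (i + 1) (by simp) (by simp), ShortComplex.moduleCat_exact_iff]
    intro z hz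
    let φ : ModuleCat.of R R ⟶ L.X i := ModuleCat.ofHom (LinearMap.toSpanSingleton R _ z)
    let g : gen R i ⟶ L := mkHomFromSingle φ (fun l hl => by
      obtain rfl : i + 1 = l := hl
      refine ModuleCat.hom_ext (LinearMap.ext_ring ?_)
      simp [φ]
      exact hz)
    have h0 : Q.map g = 0 := by
      have h1 := hX i (0 : ℤ) (Q.map g ≫ e.hom ≫ (shiftFunctorZero _ ℤ).inv.app X)
      rw [← Category.assoc, ← cancel_mono ((shiftFunctorZero _ ℤ).hom.app X)] at h1
      simpa using h1
    obtain ⟨hh⟩ := homotopy_of_Q_map_eq_zero i h0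
    have hc := congrArg (fun f => f.hom ((singleObjXSelf (ComplexShape.up ℤ) i (ModuleCat.of R R)).inv.hom (1 : R)))
      (hh.comm i)
    rw [prevD_eq _ (show (ComplexShape.up ℤ).Rel (i - 1) i by simp)] at hc
    simp only [dNext, HomologicalComplex.zero_f, add_zero] at hc
    refine ⟨(hh.hom i (i - 1)).hom ((singleObjXSelf (ComplexShape.up ℤ) i (ModuleCat.of R R)).inv.hom (1 : R)), ?_⟩
    simp [g, φ, dNext_eq, prevD_eq, single_obj_d] at hc
    exact hc.symm
  have : QuasiIso (0 : L ⟶ 0) :=
    ⟨fun i => quasiIsoAt_iff_exactAt' (0 : L ⟶ 0) i (ShortComplex.exact_of_isZero_X₂ _ ((HomologicalComplex.eval _ _ i).map_isZero (isZero_zero _))) |>.2 (hac i)⟩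
  exact IsZero.of_iso ((Q : _ ⥤ DerivedCategory (ModuleCat.{v} R)).map_isZero (isZero_zero _))
    (asIso (Q.map (0 : L ⟶ 0)))

end Ring

/-! ### Descent along an exact left adjoint of a fully faithful functor -/

section Coprod

variable [HasDerivedCategory.{w} B]

theorem preservesColimitsOfShape_Q (T : Type v) :
    PreservesColimitsOfShape (Discrete T) (Q : CochainComplex B ℤ ⥤ DerivedCategory B) where
  preservesColimit {K} := by
    obtain ⟨hc⟩ := DQCoh.nonempty_isColimit_Q_coprod hKinj (K.obj ∘ Discrete.mk)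
    haveI : PreservesColimit (Discrete.functor (K.obj ∘ Discrete.mk)) (Q : _ ⥤ DerivedCategory B) :=
      preservesColimit_of_preserves_colimit_cocone (coproductIsCoproduct _)
        ((isColimitMapCoconeCofanMkEquiv _ _ _).symm hc)
    exact preservesColimit_of_iso_diagram _ Discrete.natIsoFunctor.symm

theorem hasCoproducts (J : Type v) : HasColimitsOfShape (Discrete J) (DerivedCategory B) := by
  refine ⟨fun F => ?_⟩
  haveI := KInj.hasCoproduct_Q (A := B) hKinj (F.obj ∘ Discrete.mk)
  exact hasColimit_of_iso Discrete.natIsoFunctor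

end Coprod

section IsBrownComp

variable {D : Type*} [Category.{v} D] [Preadditive D] [HasZeroObject D] [HasShift D ℤ]
    [∀ n : ℤ, (shiftFunctor D n).Additive] [Pretriangulated D] [HasCoproducts.{v} D]
    [HasColimitsOfShape (Discrete ℕ) D]
    {D' : Type*} [Category.{v} D'] [Preadditive D'] [HasZeroObject D'] [HasShift D' ℤ]
    [∀ n : ℤ, (shiftFunctor D' n).Additive] [Pretriangulated D'] [HasCoproducts.{v} D']
    [HasColimitsOfShape (Discrete ℕ) D']
    (Φ : D ⥤ D') [Φ.CommShift ℤ] [Φ.IsTriangulated] [Φ.Additive]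
    [∀ J : Type v, PreservesColimitsOfShape (Discrete J) Φ]
    (H : D'ᵒᵖ ⥤ AddCommGrpCat.{v})

theorem bijective_comp {J : Type w'} (X : J → D) [HasCoproduct X] [HasCoproduct fun j => Φ.obj (X j)]
    [PreservesColimit (Discrete.functor X) Φ]
    (hb : Function.Bijective fun (a : H.obj (op (∐ fun j => Φ.obj (X j)))) (j : J) => Brown.res H (Sigma.ι (fun j => Φ.obj (X j)) j) a) :
    Function.Bijective fun (a : H.obj (op (Φ.obj (∐ X)))) (j : J) => Brown.res H (Φ.map (Sigma.ι X j)) a := by
  let s := (PreservesCoproduct.iso Φ X).symm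
  have hs : Function.Bijective (Brown.res H s.hom : H.obj (op (Φ.obj (∐ X))) → _) :=
    ⟨fun a b hab => by simpa [← Brown.res_comp, Brown.res_id] using congrArg (Brown.res H s.inv) hab,
      fun b => ⟨Brown.res H s.inv b, by simp [← Brown.res_comp, Brown.res_id]⟩⟩
  convert hb.comp hs using 1
  funext a j
  simp [s, ← Brown.res_comp]

variable {H}

theorem isBrown_comp (hH : Brown.IsBrown H) : Brown.IsBrown (Φ.op ⋙ H) := by
  have := hH.additive
  haveI : PreservesColimitsOfShape (Discrete ℕ) Φ :=
    preservesColimitsOfShape_of_equiv (Discrete.equivalence Equiv.ulift.{v}) Φ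
  exact ⟨inferInstance, fun T hT y hy => hH.exact _ (Φ.map_distinguished _ hT) y hy,
    fun {J} X _ => bijective_comp Φ H X (hH.pi _), fun X => bijective_comp Φ H X (hH.piNat _)⟩

end IsBrownComp

section Descent

variable [HasDerivedCategory.{v} B] {C : Type*} [Category.{v} C] [Abelian C] [IsGrothendieckAbelian.{v} C]
  [HasDerivedCategory.{v} C] (F : C ⥤ B) {G : B ⥤ C} (adj : F ⊣ G) [IsIso adj.counit] [F.Additive]
  [G.Additive] [PreservesFiniteLimits F] [PreservesFiniteColimits F]
  [HasColimitsOfShape (Discrete ℕ) (DerivedCategory B)]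

include adj in
theorem preservesColimitsOfShape_mapDerivedCategory (T : Type v) :
    PreservesColimitsOfShape (Discrete T) F.mapDerivedCategory where
  preservesColimit {K} := by
    haveI := (KInj.mapHomologicalComplexAdj adj (ComplexShape.up ℤ)).leftAdjoint_preservesColimits
    haveI := preservesColimitsOfShape_Q (B := B) T
    haveI := preservesColimitsOfShape_Q (B := C) T
    haveI : PreservesColimitsOfShape (Discrete T) (Q ⋙ F.mapDerivedCategory) :=
      preservesColimitsOfShape_of_natIso F.mapDerivedCategoryFactors.symm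
    let K₀ : Discrete T ⥤ CochainComplex C ℤ := Discrete.functor fun t => Q.objPreimage (K.obj ⟨t⟩)
    haveI : PreservesColimit (K₀ ⋙ Q) F.mapDerivedCategory :=
      preservesColimit_of_preserves_colimit_cocone (isColimitOfPreserves Q (colimit.isColimit K₀))
        (isColimitOfPreserves (Q ⋙ F.mapDerivedCategory) (colimit.isColimit K₀))
    exact preservesColimit_of_iso_diagram _
      (Discrete.natIso fun t => Q.objObjPreimageIso (K.obj t) : K₀ ⋙ Q ≅ K)

/-- `F` undoes `G` in the derived category. -/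
noncomputable def theta (J : CochainComplex B ℤ) :
    F.mapDerivedCategory.obj (Q.obj ((G.mapHomologicalComplex _).obj J)) ≅ Q.obj J :=
  F.mapDerivedCategoryFactors.app _ ≪≫ Q.mapIso
    (Hom.isoOfComponents (fun i => asIso (adj.counit.app (J.X i)))
      (fun i j _ => (adj.counit.naturality (J.d i j)).symm))

theorem theta_naturality {J I : CochainComplex B ℤ} (m : J ⟶ I) :
    F.mapDerivedCategory.map (Q.map ((G.mapHomologicalComplex _).map m)) ≫ (theta F adj I).hom =
      (theta F adj J).hom ≫ Q.map m := by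
  simp only [theta, Iso.trans_hom, Iso.app_hom, Functor.mapIso_hom, Category.assoc,
    ← Functor.map_comp]
  rw [Functor.mapDerivedCategoryFactors_hom_naturality_assoc, ← Functor.map_comp]
  congr 2
  ext i
  exact adj.counit.naturality (m.f i)

include adj in
theorem exists_obj_iso (X : DerivedCategory B) :
    ∃ (J : CochainComplex B ℤ), Nonempty (X ≅ F.mapDerivedCategory.obj (Q.obj ((G.mapHomologicalComplex _).obj J))) :=
  ⟨_, ⟨((Q : _ ⥤ DerivedCategory B).objObjPreimageIso X).symm ≪≫ (theta F adj _).symm⟩⟩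

include adj in
theorem descend {H : (DerivedCategory B)ᵒᵖ ⥤ AddCommGrpCat.{v}} {E : DerivedCategory C}
    (e : H.obj (op (F.mapDerivedCategory.obj E)))
    (he : ∀ Z, Function.Bijective fun u : Z ⟶ E => Brown.res H (F.mapDerivedCategory.map u) e) :
    (H ⋙ forget AddCommGrpCat.{v}).IsRepresentable := by
  let Φ := F.mapDerivedCategory
  let K := (Q : _ ⥤ DerivedCategory C).objPreimage E
  let i : Q.obj K ≅ E := Q.objObjPreimageIso E
  obtain ⟨I, f, hI, hf⟩ := hKinj ((F.mapHomologicalComplex _).obj K)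
  let η₀ := (KInj.mapHomologicalComplexAdj adj (ComplexShape.up ℤ)).homEquiv _ _ f
  let η : E ⟶ Q.obj ((G.mapHomologicalComplex _).obj I) := i.inv ≫ Q.map η₀
  haveI : IsIso (Φ.map (Q.map η₀)) := by
    have h : Φ.map (Q.map η₀) ≫ (theta F adj I).hom = F.mapDerivedCategoryFactors.hom.app K ≫ Q.map f := by
      simp only [Φ, theta, Iso.trans_hom, Iso.app_hom, Functor.mapIso_hom]
      rw [Functor.mapDerivedCategoryFactors_hom_naturality_assoc, ← Functor.map_comp]
      congr 2
      conv_rhs => rw [← Equiv.symm_apply_apply ((KInj.mapHomologicalComplexAdj adj (ComplexShape.up ℤ)).homEquiv _ _) f,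
        Adjunction.homEquiv_counit]
      congr 1
    rw [← Category.comp_id (Φ.map _), ← (theta F adj I).hom_inv_id, ← Category.assoc, h]
    infer_instance
  haveI : IsIso (Φ.map η) := by simp only [η, Functor.map_comp]; infer_instance
  obtain ⟨r, hr⟩ := (he _).2 (Brown.res H (inv (Φ.map η)) e)
  have hr' : η ≫ r = 𝟙 E := (he _).1 (by
    show Brown.res H (Φ.map (η ≫ r)) e = Brown.res H (Φ.map (𝟙 E)) e
    rw [Functor.map_comp, Brown.res_comp]
    erw [Φ.map_id]
    refine (congrArg (Brown.res H (Φ.map η)) hr).trans ?_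
    rw [← Brown.res_comp, IsIso.hom_inv_id])
  refine ⟨Φ.obj E, ⟨{ homEquiv := fun {X} => Equiv.ofBijective (fun g => Brown.res H g e) ?_,
                      homEquiv_comp := fun g g' => Brown.res_comp g g' e }⟩⟩
  obtain ⟨J, ⟨c⟩⟩ := exists_obj_iso F adj X
  have hlift : ∀ φ : Φ.obj (Q.obj ((G.mapHomologicalComplex _).obj J)) ⟶ Φ.obj E, ∃ u, Φ.map u = φ := by
    intro φ
    obtain ⟨m, hm⟩ := KInj.Q_map_surjective (I := I) ((theta F adj J).inv ≫ φ ≫ Φ.map η ≫ (theta F adj I).hom)
    refine ⟨Q.map ((G.mapHomologicalComplex _).map m) ≫ r, ?_⟩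
    have h := theta_naturality F adj m
    rw [hm, Iso.hom_inv_id_assoc, ← Category.assoc φ, cancel_mono] at h
    rw [Functor.map_comp, h, Category.assoc, ← Functor.map_comp, hr', Φ.map_id, Category.comp_id]
  refine ⟨fun g₁ g₂ hg => ?_, fun h => ?_⟩
  · obtain ⟨u₁, hu₁⟩ := hlift (c.inv ≫ g₁)
    obtain ⟨u₂, hu₂⟩ := hlift (c.inv ≫ g₂)
    have h12 : u₁ = u₂ := (he _).1 (by
      simp only [Φ] at hu₁ hu₂ ⊢
      simp only [hu₁, hu₂, Brown.res_comp]
      exact congrArg (Brown.res H c.inv) hg)
    rw [← cancel_epi c.inv, ← hu₁, ← hu₂, h12]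
  · obtain ⟨u, hu⟩ := (he _).2 (Brown.res H c.inv h)
    refine ⟨c.hom ≫ Φ.map u, ?_⟩
    show Brown.res H (c.hom ≫ Φ.map u) e = h
    rw [Brown.res_comp]
    refine (congrArg (Brown.res H c.hom) hu).trans ((Brown.res_comp c.hom c.inv h).symm.trans ?_)
    rw [Iso.hom_inv_id]
    exact Brown.res_id h

end Descent

/-- Brown representability for the derived category of a Grothendieck abelian category. -/
theorem isRepresentable [HasDerivedCategory.{v} B] [HasColimitsOfShape (Discrete ℕ) (DerivedCategory B)]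
    {H : (DerivedCategory B)ᵒᵖ ⥤ AddCommGrpCat.{v}} (hH : Brown.IsBrown H) :
    (H ⋙ forget AddCommGrpCat.{v}).IsRepresentable := by
  let G₀ : B := separator B
  have hG := isSeparator_separator B
  letI := smallDerived (ModuleCat.{v} (End G₀)ᵐᵒᵖ)
  let adj := IsGrothendieckAbelian.tensorObjPreadditiveCoyonedaObjAdjunction G₀
  let F := IsGrothendieckAbelian.tensorObj G₀
  haveI := IsGrothendieckAbelian.GabrielPopescu.full G₀ hG
  haveI := (isSeparator_iff_faithful_preadditiveCoyonedaObj G₀).1 hG
  haveI : PreservesFiniteLimits F := IsGrothendieckAbelian.GabrielPopescu.preservesFiniteLimits G₀ hG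
  haveI : PreservesBinaryBiproducts F := preservesBinaryBiproducts_of_preservesBinaryCoproducts _
  haveI : F.Additive := Functor.additive_of_preservesBinaryBiproducts _
  haveI : PreservesFiniteColimits F := inferInstance
  haveI : HasCoproducts.{v} (DerivedCategory B) := hasCoproducts
  haveI : HasCoproducts.{v} (DerivedCategory (ModuleCat.{v} (End G₀)ᵐᵒᵖ)) := hasCoproducts
  haveI := Brown.hasColimitsOfShape_nat (D := DerivedCategory (ModuleCat.{v} (End G₀)ᵐᵒᵖ))
  haveI := fun J : Type v => preservesColimitsOfShape_mapDerivedCategory F adj J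
  obtain ⟨E, ⟨rep⟩⟩ := Brown.isRepresentable_of_compact
    (fun n : ULift.{v} ℤ => (Q : _ ⥤ DerivedCategory (ModuleCat.{v} (End G₀)ᵐᵒᵖ)).obj (gen _ n.down))
    (fun n => isCompactObject_gen n.down) (fun K hK => generates_gen K fun n m f => hK ⟨n⟩ m f)
    (isBrown_comp F.mapDerivedCategory hH)
  refine descend F adj (rep.homEquiv (𝟙 E)) fun Z => ?_
  have hk : ∀ u : Z ⟶ E, rep.homEquiv u = Brown.res H (F.mapDerivedCategory.map u) (rep.homEquiv (𝟙 E)) :=
    fun u => (congrArg _ (Category.comp_id u).symm).trans (rep.homEquiv_comp u (𝟙 E))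
  exact ⟨fun u u' huu => rep.homEquiv.injective ((hk u).trans (huu.trans (hk u').symm)),
    fun x => ⟨rep.homEquiv.symm x, (hk _).symm.trans (rep.homEquiv.apply_symm_apply x)⟩⟩

end Groth.Agent.BrownDerived
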